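import Mathlib.RingTheory.HopfAlgebra.Convolution
import Mathlib.RingTheory.HopfAlgebra.TensorProduct
import Mathlib.Algebra.Group.Basic

/-!
Antipode identities in a commutative Hopf algebra over a commutative ring, via the convolution group
of algebra maps `A → A ⊗ A`.
-/

set_option autoImplicit false
universe u v w
open TensorProduct WithConv

namespace K189.Antipode

variable {k : Type u} [CommRing k] {A : Type v} [CommRing A] [HopfAlgebra k A]

theorem convMul_apply {R : Type w} [CommRing R] [Algebra k R] (x y : WithConv (A →ₐ[k] R)) (a : A) :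
    (x * y).ofConv a = LinearMap.mul' k R (TensorProduct.map x.ofConv.toLinearMap y.ofConv.toLinearMap
      (CoalgebraStruct.comul (R := k) a)) := by
  rw [AlgHom.convMul_def]
  rfl

/-- postcomposition with an algebra map, as a monoid hom -/
noncomputable def mapPt {R S : Type w} [CommRing R] [Algebra k R] [CommRing S] [Algebra k S]
    (φ : R →ₐ[k] S) : WithConv (A →ₐ[k] R) →* WithConv (A →ₐ[k] S) where
  toFun g := toConv (φ.comp g.ofConv)
  map_one' := by
    apply WithConv.ofConv_injective
    ext a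
    simp [AlgHom.convOne_def, Algebra.ofId_apply]
  map_mul' f g := by
    apply WithConv.ofConv_injective
    exact AlgHom.comp_convMul_distrib φ f g

theorem inv_mul {R : Type v} [CommRing R] [Algebra k R] (f : A →ₐ[k] R) :
    toConv (f.comp (HopfAlgebra.antipodeAlgHom k A)) * toConv f = 1 := by
  have h1 := congrArg (mapPt f) (AlgHom.antipode_id_cancel (R := k) (A := A))
  rw [map_mul, map_one] at h1
  exact h1

variable (k A) in
/-- the group of points (not an instance) -/
@[reducible] noncomputable def grp (R : Type v) [CommRing R] [Algebra k R] :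
    Group (WithConv (A →ₐ[k] R)) where
  inv g := toConv (g.ofConv.comp (HopfAlgebra.antipodeAlgHom k A))
  inv_mul_cancel g := inv_mul g.ofConv

variable (k A) in
/-- the first inclusion -/
noncomputable def i1 : WithConv (A →ₐ[k] A ⊗[k] A) := toConv Algebra.TensorProduct.includeLeft

variable (k A) in
/-- the second inclusion -/
noncomputable def i2 : WithConv (A →ₐ[k] A ⊗[k] A) := toConv Algebra.TensorProduct.includeRight

variable (k A) in
/-- comultiplication -/
noncomputable def dl : WithConv (A →ₐ[k] A ⊗[k] A) := toConv (Bialgebra.comulAlgHom k A)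

theorem dl_eq : dl k A = i1 k A * i2 k A := by
  apply WithConv.ofConv_injective
  ext a
  rw [convMul_apply]
  change CoalgebraStruct.comul (R := k) a = _
  generalize CoalgebraStruct.comul (R := k) a = y
  induction y using TensorProduct.induction_on with
  | zero => simp
  | tmul x y => simp [i1, i2]
  | add x y hx hy => rw [map_add, map_add, ← hx, ← hy]

theorem grp1 {G : Type w} [Group G] (x y : G) : y * (x * y)⁻¹ = x⁻¹ := by simp
theorem grp2 {G : Type w} [Group G] (x y : G) : x⁻¹ * (x * y) = y := by simp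
theorem grp3 {G : Type w} [Group G] (x y : G) : x * y * y⁻¹ = x := by simp
theorem grp4 {G : Type w} [Group G] (x y : G) : (x * y)⁻¹ = y⁻¹ * x⁻¹ := mul_inv_rev x y

/-- `Σ (1 ⊗ a₁) Δ(S a₂) = S a ⊗ 1` -/
theorem sum_inr_mul_comul_antipode (a : A) :
    LinearMap.mul' k (A ⊗[k] A) (TensorProduct.map
      (Algebra.TensorProduct.includeRight : A →ₐ[k] A ⊗[k] A).toLinearMap
      (CoalgebraStruct.comul (R := k) (A := A) ∘ₗ HopfAlgebraStruct.antipode k)
      (CoalgebraStruct.comul (R := k) a)) = HopfAlgebraStruct.antipode k a ⊗ₜ[k] (1 : A) := by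
  letI := grp k A (A ⊗[k] A)
  have h : i2 k A * (dl k A)⁻¹ = (i1 k A)⁻¹ := by rw [dl_eq]; exact grp1 _ _
  have h2 := congrArg (fun f : WithConv (A →ₐ[k] A ⊗[k] A) => f.ofConv a) h
  simp only [convMul_apply] at h2
  exact h2

/-- `Σ (S a₁ ⊗ 1) Δ(a₂) = 1 ⊗ a` -/
theorem sum_antipode_mul_comul (a : A) :
    LinearMap.mul' k (A ⊗[k] A) (TensorProduct.map
      ((Algebra.TensorProduct.includeLeft : A →ₐ[k] A ⊗[k] A).toLinearMap ∘ₗ
        HopfAlgebraStruct.antipode k)
      (CoalgebraStruct.comul (R := k) (A := A))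
      (CoalgebraStruct.comul (R := k) a)) = (1 : A) ⊗ₜ[k] a := by
  letI := grp k A (A ⊗[k] A)
  have h : (i1 k A)⁻¹ * dl k A = i2 k A := by rw [dl_eq]; exact grp2 _ _
  have h2 := congrArg (fun f : WithConv (A →ₐ[k] A ⊗[k] A) => f.ofConv a) h
  simp only [convMul_apply] at h2
  exact h2

/-- `Σ Δ(a₁) (1 ⊗ S a₂) = a ⊗ 1` -/
theorem sum_comul_mul_antipode (a : A) :
    LinearMap.mul' k (A ⊗[k] A) (TensorProduct.map
      (CoalgebraStruct.comul (R := k) (A := A))
      ((Algebra.TensorProduct.includeRight : A →ₐ[k] A ⊗[k] A).toLinearMap ∘ₗ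
        HopfAlgebraStruct.antipode k)
      (CoalgebraStruct.comul (R := k) a)) = a ⊗ₜ[k] (1 : A) := by
  letI := grp k A (A ⊗[k] A)
  have h : dl k A * (i2 k A)⁻¹ = i1 k A := by rw [dl_eq]; exact grp3 _ _
  have h2 := congrArg (fun f : WithConv (A →ₐ[k] A ⊗[k] A) => f.ofConv a) h
  simp only [convMul_apply] at h2
  exact h2

/-- `Δ(S a) = S(a₂) ⊗ S(a₁)` -/
theorem comul_antipode (x : A) : CoalgebraStruct.comul (R := k) (HopfAlgebraStruct.antipode k x) =
    TensorProduct.comm k A A (TensorProduct.map (HopfAlgebraStruct.antipode k)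
      (HopfAlgebraStruct.antipode k) (CoalgebraStruct.comul (R := k) x)) := by
  letI := grp k A (A ⊗[k] A)
  have h : (dl k A)⁻¹ = (i2 k A)⁻¹ * (i1 k A)⁻¹ := by rw [dl_eq]; exact grp4 _ _
  have h2 := congrArg (fun f : WithConv (A →ₐ[k] A ⊗[k] A) => f.ofConv x) h
  simp only [convMul_apply] at h2
  refine Eq.trans h2 ?_
  generalize CoalgebraStruct.comul (R := k) x = y
  induction y using TensorProduct.induction_on with
  | zero => simp
  | tmul x y =>
    rw [TensorProduct.map_tmul, LinearMap.mul'_apply, TensorProduct.map_tmul, TensorProduct.comm_tmul]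
    change ((1 : A) ⊗ₜ[k] HopfAlgebraStruct.antipode k x) *
      (HopfAlgebraStruct.antipode k y ⊗ₜ[k] (1 : A)) = _
    simp
  | add x y hx hy => rw [map_add, map_add, hx, hy, map_add, map_add]

theorem antipode_antipode (x : A) :
    HopfAlgebraStruct.antipode k (HopfAlgebraStruct.antipode k x) = x := by
  letI := grp k A A
  have h : ((toConv (AlgHom.id k A) : WithConv (A →ₐ[k] A))⁻¹)⁻¹ = toConv (AlgHom.id k A) :=
    inv_inv _
  have h2 := congrArg (fun f : WithConv (A →ₐ[k] A) => f.ofConv x) h
  exact h2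

end K189.Antipode
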