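import Groth.Prelude.Def_Hoch

/-!
Basic facts about comodules over a commutative ring and comodule maps into induced comodules.
-/

set_option autoImplicit false
universe u v w w'
open TensorProduct

namespace K189.Basic

section

variable {k : Type u} {A : Type v} [CommRing k] [AddCommGroup A] [Module k A] [Coalgebra k A]
variable {M : Type w} [AddCommGroup M] [Module k M] [HopfRep.Comod k A M]
variable {N : Type w'} [AddCommGroup N] [Module k N]

/-- coassociativity applied to an element -/
theorem coassoc_apply (m : M) :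
    TensorProduct.assoc k M A A ((HopfRep.Comod.coact (k := k) (A := A) (V := M)).rTensor A
      (HopfRep.Comod.coact (k := k) (A := A) m)) =
    (CoalgebraStruct.comul (R := k) (A := A)).lTensor M (HopfRep.Comod.coact (k := k) (A := A) m) :=
  LinearMap.congr_fun (HopfRep.Comod.coassoc (k := k) (A := A) (V := M)) m

theorem coassoc_symm_apply (m : M) :
    (HopfRep.Comod.coact (k := k) (A := A) (V := M)).rTensor A
      (HopfRep.Comod.coact (k := k) (A := A) m) =
    (TensorProduct.assoc k M A A).symm ((CoalgebraStruct.comul (R := k) (A := A)).lTensor M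
      (HopfRep.Comod.coact (k := k) (A := A) m)) := by
  rw [LinearEquiv.eq_symm_apply, coassoc_apply]

/-- counitality applied to an element -/
theorem counit_apply (m : M) :
    (CoalgebraStruct.counit (R := k) (A := A)).lTensor M (HopfRep.Comod.coact (k := k) (A := A) m) =
      m ⊗ₜ[k] (1 : k) :=
  LinearMap.congr_fun (HopfRep.Comod.counit_comp (k := k) (A := A) (V := M)) m

theorem rid_counit_apply (m : M) :
    TensorProduct.rid k M ((CoalgebraStruct.counit (R := k) (A := A)).lTensor M
      (HopfRep.Comod.coact (k := k) (A := A) m)) = m := by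
  rw [counit_apply]; simp

theorem coact_injective : Function.Injective (HopfRep.Comod.coact (k := k) (A := A) (V := M)) := by
  intro a b h
  rw [← rid_counit_apply (k := k) (A := A) a, ← rid_counit_apply (k := k) (A := A) b, h]

theorem isComodHom_iff {W : Type w'} [AddCommGroup W] [Module k W] [HopfRep.Comod k A W] (f : M →ₗ[k] W) :
    Hoch.IsComodHom A f ↔ ∀ m : M, HopfRep.Comod.coact (k := k) (A := A) (f m) =
      f.rTensor A (HopfRep.Comod.coact (k := k) (A := A) m) := by
  constructor
  · intro h m
    exact LinearMap.congr_fun h m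
  · intro h
    exact LinearMap.ext h

theorem coact_ind (x : N ⊗[k] A) :
    (HopfRep.Comod.coact (k := k) (A := A) (V := Hoch.Ind k A N) (Hoch.Ind.equiv k A N x) :
      (N ⊗[k] A) ⊗[k] A) =
    (TensorProduct.assoc k N A A).symm ((CoalgebraStruct.comul (R := k) (A := A)).lTensor N x) := rfl

/-- the comodule map `M → N ⊗ A` attached to a linear map `h : M → N` -/
theorem isComodHom_ind (h : M →ₗ[k] N) : Hoch.IsComodHom A
    ((Hoch.Ind.equiv k A N).toLinearMap ∘ₗ h.rTensor A ∘ₗ HopfRep.Comod.coact (k := k) (A := A)) := by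
  rw [isComodHom_iff]
  intro m
  change (TensorProduct.assoc k N A A).symm ((CoalgebraStruct.comul (R := k) (A := A)).lTensor N
    (h.rTensor A (HopfRep.Comod.coact (k := k) (A := A) m))) =
    (h.rTensor A ∘ₗ HopfRep.Comod.coact (k := k) (A := A)).rTensor A
      (HopfRep.Comod.coact (k := k) (A := A) m)
  rw [LinearMap.rTensor_comp, LinearMap.comp_apply, coassoc_symm_apply]
  generalize HopfRep.Comod.coact (k := k) (A := A) m = x
  have key : (TensorProduct.assoc k N A A).symm.toLinearMap ∘ₗ
      (CoalgebraStruct.comul (R := k) (A := A)).lTensor N ∘ₗ h.rTensor A =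
      (h.rTensor A).rTensor A ∘ₗ (TensorProduct.assoc k M A A).symm.toLinearMap ∘ₗ
      (CoalgebraStruct.comul (R := k) (A := A)).lTensor M := by
    refine TensorProduct.ext' fun m a => ?_
    simp only [LinearMap.comp_apply, LinearMap.lTensor_tmul, LinearMap.rTensor_tmul, LinearEquiv.coe_coe]
    generalize CoalgebraStruct.comul (R := k) a = y
    induction y with
    | zero => simp
    | tmul x y => simp
    | add x y hx hy => rw [tmul_add, map_add, hx, hy, tmul_add, map_add, map_add]
  exact LinearMap.congr_fun key x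

/-- `id ⊗ ε : N ⊗ A → N` -/
noncomputable def ev (k : Type u) (A : Type v) [CommRing k] [AddCommGroup A] [Module k A] [Coalgebra k A]
    (N : Type w') [AddCommGroup N] [Module k N] : N ⊗[k] A →ₗ[k] N :=
  (TensorProduct.rid k N).toLinearMap ∘ₗ (CoalgebraStruct.counit (R := k) (A := A)).lTensor N

@[simp] theorem ev_tmul (n : N) (a : A) : ev k A N (n ⊗ₜ a) = CoalgebraStruct.counit (R := k) a • n := by
  simp [ev]

theorem ev_coact (m : M) : ev k A M (HopfRep.Comod.coact (k := k) (A := A) m) = m := rid_counit_apply m

theorem ev_rTensor (h : M →ₗ[k] N) (x : M ⊗[k] A) : ev k A N (h.rTensor A x) = h (ev k A M x) := by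
  induction x with
  | zero => simp
  | tmul x y => simp
  | add x y hx hy => simp only [map_add, hx, hy]

theorem rTensor_ev_comul (x : N ⊗[k] A) :
    (ev k A N).rTensor A
      ((TensorProduct.assoc k N A A).symm ((CoalgebraStruct.comul (R := k) (A := A)).lTensor N x)) = x := by
  have key : (ev k A N).rTensor A ∘ₗ (TensorProduct.assoc k N A A).symm.toLinearMap ∘ₗ
      (CoalgebraStruct.comul (R := k) (A := A)).lTensor N = LinearMap.id := by
    refine TensorProduct.ext' fun n a => ?_
    have h2 : ∀ y : A ⊗[k] A, (ev k A N).rTensor A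
        ((TensorProduct.assoc k N A A).symm (n ⊗ₜ y)) =
        n ⊗ₜ (TensorProduct.lid k A ((CoalgebraStruct.counit (R := k) (A := A)).rTensor A y)) := by
      intro y
      induction y with
      | zero => simp
      | tmul x y =>
        simp only [TensorProduct.assoc_symm_tmul, LinearMap.rTensor_tmul, TensorProduct.lid_tmul, ev_tmul]
        rw [TensorProduct.smul_tmul]
      | add x y hx hy =>
        rw [tmul_add, map_add, map_add, hx, hy, ← tmul_add, ← map_add, ← map_add]
    simp only [LinearMap.comp_apply, LinearMap.lTensor_tmul, LinearEquiv.coe_coe, LinearMap.id_apply]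
    rw [h2]
    simp
  exact LinearMap.congr_fun key x

theorem ind_counit_equiv (x : N ⊗[k] A) :
    Hoch.Ind.counit k A N (Hoch.Ind.equiv k A N x) = ev k A N x := rfl

theorem rTensor_counit_coact_ind (x : N ⊗[k] A) :
    (Hoch.Ind.counit k A N).rTensor A
      (HopfRep.Comod.coact (k := k) (A := A) (V := Hoch.Ind k A N) (Hoch.Ind.equiv k A N x)) = x :=
  rTensor_ev_comul x

theorem counit_isComodHom {f : M →ₗ[k] Hoch.Ind k A N} (hf : Hoch.IsComodHom A f) :
    f = (Hoch.Ind.equiv k A N).toLinearMap ∘ₗ (Hoch.Ind.counit k A N ∘ₗ f).rTensor A ∘ₗ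
      HopfRep.Comod.coact (k := k) (A := A) := by
  refine LinearMap.ext fun m => ?_
  rw [isComodHom_iff] at hf
  have h1 := rTensor_counit_coact_ind (k := k) (A := A) (N := N) ((Hoch.Ind.equiv k A N).symm (f m))
  rw [LinearEquiv.apply_symm_apply, hf] at h1
  simp only [LinearMap.comp_apply, LinearMap.rTensor_comp]
  rw [h1]
  simp

theorem counit_rTensor_coact (h : M →ₗ[k] N) (m : M) :
    Hoch.Ind.counit k A N (Hoch.Ind.equiv k A N (h.rTensor A (HopfRep.Comod.coact (k := k) (A := A) m))) =
      h m := by
  rw [ind_counit_equiv, ev_rTensor, ev_coact]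

theorem existsUnique_ind {f : M →ₗ[k] Hoch.Ind k A N} (hf : Hoch.IsComodHom A f) :
    ∃! h : M →ₗ[k] N,
      f = (Hoch.Ind.equiv k A N).toLinearMap ∘ₗ h.rTensor A ∘ₗ HopfRep.Comod.coact (k := k) (A := A) := by
  refine ⟨Hoch.Ind.counit k A N ∘ₗ f, counit_isComodHom hf, ?_⟩
  intro h hh
  refine LinearMap.ext fun m => ?_
  rw [LinearMap.comp_apply, hh]
  exact (counit_rTensor_coact h m).symm

end

end K189.Basic
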