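import Groth.Agent.HopfRep.K189.Invariants
import Mathlib.LinearAlgebra.Contraction

/-!
For a finite projective commutative Hopf algebra `A` and a coaction on a commutative algebra `B`, the
module `Hom_k(A, B)` is a relative Hopf module; invariants are the comodule maps.
-/

set_option autoImplicit false
universe u v w z z'
open TensorProduct HopfRep

noncomputable section

namespace K189.HomMod

open K189.Basic K189.Antipode

variable {k : Type u} [CommRing k] {A : Type v} [CommRing A] [HopfAlgebra k A]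
variable {B : Type w} [CommRing B] [Algebra k B] [Comod k A B] [GLin.IsCoactAlg k A B]

variable (k A B) in
/-- `y ⊗ a ↦ y * (1 ⊗ a)` -/
def mulR : (B ⊗[k] A) ⊗[k] A →ₗ[k] B ⊗[k] A :=
  LinearMap.mul' k (B ⊗[k] A) ∘ₗ TensorProduct.map LinearMap.id
    (Algebra.TensorProduct.includeRight : A →ₐ[k] B ⊗[k] A).toLinearMap

omit [Comod k A B] [GLin.IsCoactAlg k A B] in
@[simp] lemma mulR_tmul (y : B ⊗[k] A) (a : A) : mulR k A B (y ⊗ₜ a) = y * (1 ⊗ₜ a) := by
  simp [mulR]

/-- `u ⊗ v ↦ ρ(f u) * (1 ⊗ S v)` -/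
def G2 (f : A →ₗ[k] B) : A ⊗[k] A →ₗ[k] B ⊗[k] A :=
  mulR k A B ∘ₗ TensorProduct.map (Comod.coact (k := k) (A := A) ∘ₗ f) (HopfAlgebraStruct.antipode k)

omit [GLin.IsCoactAlg k A B] in
@[simp] lemma G2_tmul (f : A →ₗ[k] B) (u v : A) : G2 f (u ⊗ₜ v) =
    Comod.coact (k := k) (A := A) (f u) * (1 ⊗ₜ HopfAlgebraStruct.antipode k v) := by
  simp [G2]

variable (k A B) in
/-- `Γ f (x) = Σ ρ(f x₁) (1 ⊗ S x₂)` -/
def Gam : (A →ₗ[k] B) →ₗ[k] (A →ₗ[k] B ⊗[k] A) where
  toFun f := G2 f ∘ₗ CoalgebraStruct.comul (R := k) (A := A)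
  map_add' f g := by
    ext x
    have : ∀ z : A ⊗[k] A, G2 (f + g) z = G2 f z + G2 g z := by
      intro z
      induction z with
      | zero => simp
      | tmul u v => simp [add_mul]
      | add a b ha hb => simp only [map_add, ha, hb]; abel
    simp [this]
  map_smul' c f := by
    ext x
    have : ∀ z : A ⊗[k] A, G2 (c • f) z = c • G2 f z := by
      intro z
      induction z with
      | zero => simp
      | tmul u v => simp
      | add a b ha hb => simp only [map_add, ha, hb, smul_add]
    simp [this]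

omit [GLin.IsCoactAlg k A B] in
lemma Gam_apply (f : A →ₗ[k] B) (x : A) : Gam k A B f x = G2 f (CoalgebraStruct.comul (R := k) x) := rfl

variable [Module.Finite k A] [Module.Projective k A]

variable (k A B) in
/-- `Hom(A, B) ⊗ Q ≃ Hom(A, B ⊗ Q)` -/
def Th (Q : Type z) [AddCommGroup Q] [Module k Q] : (A →ₗ[k] B) ⊗[k] Q ≃ₗ[k] (A →ₗ[k] B ⊗[k] Q) :=
  rTensorHomEquivHomRTensor k A B Q

omit [Comod k A B] [GLin.IsCoactAlg k A B] in
@[simp] lemma Th_tmul (Q : Type z) [AddCommGroup Q] [Module k Q] (f : A →ₗ[k] B) (q : Q) (x : A) :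
    Th k A B Q (f ⊗ₜ q) x = f x ⊗ₜ q := by
  rw [Th, rTensorHomEquivHomRTensor_apply]
  rfl

omit [Comod k A B] [GLin.IsCoactAlg k A B] in
lemma Th_lTensor {Q : Type z} {Q' : Type z'} [AddCommGroup Q] [Module k Q] [AddCommGroup Q'] [Module k Q']
    (g : Q →ₗ[k] Q') (t : (A →ₗ[k] B) ⊗[k] Q) (x : A) :
    Th k A B Q' (g.lTensor _ t) x = g.lTensor B (Th k A B Q t x) := by
  induction t with
  | zero => simp
  | tmul f q => simp
  | add a b ha hb => simp only [map_add, LinearMap.add_apply, ha, hb]

variable (k A B) in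
/-- the coaction on `Hom(A, B)` -/
def coactH : (A →ₗ[k] B) →ₗ[k] (A →ₗ[k] B) ⊗[k] A := (Th k A B A).symm.toLinearMap ∘ₗ Gam k A B

omit [GLin.IsCoactAlg k A B] in
@[simp] lemma Th_coactH (f : A →ₗ[k] B) : Th k A B A (coactH k A B f) = Gam k A B f := by
  simp [coactH]

/-- `u ⊗ (v ⊗ w) ↦ (ρ ⊗ id)(ρ(f u)) * (1 ⊗ (S w ⊗ S v))` -/
def Xi (f : A →ₗ[k] B) : A ⊗[k] (A ⊗[k] A) →ₗ[k] B ⊗[k] (A ⊗[k] A) :=
  LinearMap.mul' k (B ⊗[k] (A ⊗[k] A)) ∘ₗ TensorProduct.map
    ((TensorProduct.assoc k B A A).toLinearMap ∘ₗ (Comod.coact (k := k) (A := A)).rTensor A ∘ₗ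
      Comod.coact (k := k) (A := A) ∘ₗ f)
    ((Algebra.TensorProduct.includeRight : A ⊗[k] A →ₐ[k] B ⊗[k] (A ⊗[k] A)).toLinearMap ∘ₗ
      (TensorProduct.comm k A A).toLinearMap ∘ₗ TensorProduct.map (HopfAlgebraStruct.antipode k)
        (HopfAlgebraStruct.antipode k))

omit [GLin.IsCoactAlg k A B] [Module.Finite k A] [Module.Projective k A] in
@[simp] lemma Xi_tmul (f : A →ₗ[k] B) (u : A) (z : A ⊗[k] A) : Xi f (u ⊗ₜ z) =
    TensorProduct.assoc k B A A ((Comod.coact (k := k) (A := A)).rTensor A
      (Comod.coact (k := k) (A := A) (f u))) *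
    (1 ⊗ₜ (TensorProduct.comm k A A (TensorProduct.map (HopfAlgebraStruct.antipode k)
        (HopfAlgebraStruct.antipode k) z))) := by
  simp [Xi]

omit [Comod k A B] [GLin.IsCoactAlg k A B] [Module.Finite k A] [Module.Projective k A] in
lemma lTensor_comul_mul (x y : B ⊗[k] A) :
    (CoalgebraStruct.comul (R := k) (A := A)).lTensor B (x * y) =
      (CoalgebraStruct.comul (R := k) (A := A)).lTensor B x *
      (CoalgebraStruct.comul (R := k) (A := A)).lTensor B y :=
  map_mul (Algebra.TensorProduct.map (AlgHom.id k B) (Bialgebra.comulAlgHom k A)) x y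

omit [GLin.IsCoactAlg k A B] [Module.Finite k A] [Module.Projective k A] in
lemma lTensor_comul_G2 (f : A →ₗ[k] B) (z : A ⊗[k] A) :
    (CoalgebraStruct.comul (R := k) (A := A)).lTensor B (G2 f z) =
      Xi f ((CoalgebraStruct.comul (R := k) (A := A)).lTensor A z) := by
  induction z with
  | zero => simp
  | tmul u v =>
    rw [G2_tmul, lTensor_comul_mul, LinearMap.lTensor_tmul, LinearMap.lTensor_tmul, Xi_tmul,
      ← coassoc_apply, comul_antipode]
  | add a b ha hb => simp only [map_add, ha, hb]

variable (k A B) in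
/-- `(b ⊗ a) ⊗ c ↦ assoc ((ρ b (1 ⊗ S c)) ⊗ a)` -/
def Lam : (B ⊗[k] A) ⊗[k] A →ₗ[k] B ⊗[k] (A ⊗[k] A) :=
  (TensorProduct.assoc k B A A).toLinearMap ∘ₗ
    (mulR k A B ∘ₗ TensorProduct.map (Comod.coact (k := k) (A := A)) (HopfAlgebraStruct.antipode k)).rTensor A ∘ₗ
    (TensorProduct.rightComm k B A A).toLinearMap

omit [GLin.IsCoactAlg k A B] [Module.Finite k A] [Module.Projective k A] in
@[simp] lemma Lam_tmul (b : B) (a c : A) : Lam k A B ((b ⊗ₜ a) ⊗ₜ c) =
    TensorProduct.assoc k B A A ((Comod.coact (k := k) (A := A) b *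
      (1 ⊗ₜ HopfAlgebraStruct.antipode k c)) ⊗ₜ a) := by
  simp [Lam]

omit [Comod k A B] [GLin.IsCoactAlg k A B] [Module.Finite k A] [Module.Projective k A] in
lemma assoc_mul (x y : (B ⊗[k] A) ⊗[k] A) : TensorProduct.assoc k B A A (x * y) =
    TensorProduct.assoc k B A A x * TensorProduct.assoc k B A A y :=
  map_mul (Algebra.TensorProduct.assoc k k k B A A) x y

omit [Comod k A B] [GLin.IsCoactAlg k A B] [Module.Finite k A] [Module.Projective k A] in
lemma rTensor_mul_aux [Comod k A B] (y : B ⊗[k] A) (c v : A) :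
    Lam k A B ((y * (1 ⊗ₜ v)) ⊗ₜ c) =
      TensorProduct.assoc k B A A ((Comod.coact (k := k) (A := A)).rTensor A y) *
        (1 ⊗ₜ (HopfAlgebraStruct.antipode k c ⊗ₜ v)) := by
  induction y with
  | zero => simp
  | tmul b a =>
    rw [Algebra.TensorProduct.tmul_mul_tmul, mul_one, Lam_tmul, LinearMap.rTensor_tmul]
    have h : (1 : B) ⊗ₜ[k] (HopfAlgebraStruct.antipode k c ⊗ₜ[k] v) =
      TensorProduct.assoc k B A A (((1 : B) ⊗ₜ[k] HopfAlgebraStruct.antipode k c) ⊗ₜ[k] v) := by simp
    rw [h, ← assoc_mul, Algebra.TensorProduct.tmul_mul_tmul]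
  | add a b ha hb => simp only [add_mul, add_tmul, map_add, ha, hb]

omit [GLin.IsCoactAlg k A B] [Module.Finite k A] [Module.Projective k A] in
lemma Lam_G2 (f : A →ₗ[k] B) (z : A ⊗[k] A) (c : A) :
    Lam k A B (G2 f z ⊗ₜ c) = Xi f (TensorProduct.assoc k A A A (z ⊗ₜ c)) := by
  induction z with
  | zero => simp
  | tmul u v =>
    rw [G2_tmul, rTensor_mul_aux, TensorProduct.assoc_tmul, Xi_tmul, TensorProduct.map_tmul,
      TensorProduct.comm_tmul]
  | add a b ha hb => simp only [map_add, add_tmul, ha, hb]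

omit [GLin.IsCoactAlg k A B] in
lemma Th_assoc (t : (A →ₗ[k] B) ⊗[k] A) (x : A) :
    Th k A B (A ⊗[k] A) (TensorProduct.assoc k (A →ₗ[k] B) A A ((coactH k A B).rTensor A t)) x =
      Lam k A B ((Th k A B A t).rTensor A (CoalgebraStruct.comul (R := k) x)) := by
  induction t with
  | zero => simp
  | tmul g a =>
    rw [LinearMap.rTensor_tmul]
    have h1 : ∀ s : (A →ₗ[k] B) ⊗[k] A, Th k A B (A ⊗[k] A)
        (TensorProduct.assoc k (A →ₗ[k] B) A A (s ⊗ₜ a)) x =
        TensorProduct.assoc k B A A ((Th k A B A s x) ⊗ₜ a) := by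
      intro s
      induction s with
      | zero => simp
      | tmul h q => simp
      | add y y' hy hy' => simp only [map_add, add_tmul, LinearMap.add_apply, hy, hy']
    rw [h1, Th_coactH, Gam_apply]
    generalize CoalgebraStruct.comul (R := k) x = z
    induction z with
    | zero => simp
    | tmul u v => simp
    | add y y' hy hy' => simp only [map_add, add_tmul, hy, hy']
  | add a b ha hb =>
    simp only [map_add, LinearMap.add_apply, LinearMap.rTensor_add, ha, hb]

omit [GLin.IsCoactAlg k A B] [Module.Finite k A] [Module.Projective k A] in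
lemma lTensor_counit_G2 (f : A →ₗ[k] B) (z : A ⊗[k] A) :
    (CoalgebraStruct.counit (R := k) (A := A)).lTensor B (G2 f z) =
      f (TensorProduct.rid k A ((CoalgebraStruct.counit (R := k) (A := A)).lTensor A z)) ⊗ₜ (1 : k) := by
  induction z with
  | zero => simp
  | tmul u v =>
    have h1 : ∀ y : B ⊗[k] A, (CoalgebraStruct.counit (R := k) (A := A)).lTensor B
        (y * (1 ⊗ₜ HopfAlgebraStruct.antipode k v)) =
        CoalgebraStruct.counit (R := k) v • (CoalgebraStruct.counit (R := k) (A := A)).lTensor B y := by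
      intro y
      induction y with
      | zero => simp
      | tmul b a =>
        rw [Algebra.TensorProduct.tmul_mul_tmul, LinearMap.lTensor_tmul, LinearMap.lTensor_tmul,
          Bialgebra.counit_mul]
        have : CoalgebraStruct.counit (R := k) (HopfAlgebraStruct.antipode k v) =
          CoalgebraStruct.counit (R := k) v := HopfAlgebra.counit_antipode v
        rw [this, mul_one, mul_comm, ← smul_eq_mul, TensorProduct.tmul_smul]
      | add a b ha hb => simp only [add_mul, map_add, smul_add, ha, hb]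
    rw [G2_tmul, h1, counit_apply]
    simp [TensorProduct.smul_tmul']
  | add a b ha hb => simp only [map_add, add_tmul, ha, hb]

variable (k A B) in
/-- the comodule structure on `Hom(A, B)` -/
@[reducible] def comodH : Comod k A (A →ₗ[k] B) where
  coact := coactH k A B
  coassoc := by
    refine LinearMap.ext fun f => ?_
    apply (Th k A B (A ⊗[k] A)).injective
    refine LinearMap.ext fun x => ?_
    simp only [LinearMap.comp_apply, LinearEquiv.coe_coe]
    rw [Th_assoc, Th_lTensor, Th_coactH, Gam_apply, lTensor_comul_G2, ← Coalgebra.coassoc_apply]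
    generalize CoalgebraStruct.comul (R := k) x = z
    induction z with
    | zero => simp
    | tmul u v =>
      rw [LinearMap.rTensor_tmul, LinearMap.rTensor_tmul, Gam_apply, Lam_G2]
    | add y y' hy hy' => simp only [map_add, hy, hy']
  counit_comp := by
    refine LinearMap.ext fun f => ?_
    apply (Th k A B k).injective
    refine LinearMap.ext fun x => ?_
    simp only [LinearMap.comp_apply, LinearMap.flip_apply, TensorProduct.mk_apply]
    rw [Th_lTensor, Th_coactH, Gam_apply, lTensor_counit_G2, Coalgebra.lTensor_counit_comul, Th_tmul]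
    simp

lemma isHopfMod_H : letI := comodH k A B
    TameAct.IsHopfMod k A B (A →ₗ[k] B) := by
  letI := comodH k A B
  refine ⟨fun b f => ?_⟩
  apply (Th k A B A).injective
  refine LinearMap.ext fun x => ?_
  change Th k A B A (coactH k A B (b • f)) x = Th k A B A (TameAct.hmSMul k A B (A →ₗ[k] B)
    (Comod.coact (k := k) (A := A) b) (coactH k A B f)) x
  have h1 : ∀ (y : B ⊗[k] A) (t : (A →ₗ[k] B) ⊗[k] A),
      Th k A B A (TameAct.hmSMul k A B (A →ₗ[k] B) y t) x = y * Th k A B A t x := by
    intro y t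
    induction y with
    | zero => simp
    | tmul c a =>
      induction t with
      | zero => simp
      | tmul g a' => simp
      | add s s' hs hs' => simp only [map_add, LinearMap.add_apply, hs, hs', mul_add]
    | add s s' hs hs' => simp only [map_add, LinearMap.add_apply, hs, hs', add_mul]
  rw [h1, Th_coactH, Th_coactH, Gam_apply, Gam_apply]
  generalize CoalgebraStruct.comul (R := k) x = z
  induction z with
  | zero => simp
  | tmul u v =>
    rw [G2_tmul, G2_tmul, LinearMap.smul_apply, smul_eq_mul,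
      GLin.IsCoactAlg.coact_mul (k := k) (A := A), mul_assoc]
  | add y y' hy hy' => simp only [map_add, hy, hy', mul_add]

variable (k A B) in
/-- evaluation at one -/
def ev1 : (A →ₗ[k] B) →ₗ[B] B where
  toFun f := f 1
  map_add' _ _ := rfl
  map_smul' _ _ := rfl

omit [Comod k A B] [GLin.IsCoactAlg k A B] [Module.Finite k A] [Module.Projective k A] in
lemma ev1_surjective : Function.Surjective (ev1 k A B) := by
  intro b
  refine ⟨(LinearMap.toSpanSingleton k B b) ∘ₗ CoalgebraStruct.counit (R := k) (A := A), ?_⟩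
  change (CoalgebraStruct.counit (R := k) (1 : A)) • b = b
  rw [Bialgebra.counit_one, one_smul]

lemma isComodHom_ev1 : letI := comodH k A B
    Hoch.IsComodHom A ((ev1 k A B).restrictScalars k) := by
  letI := comodH k A B
  rw [isComodHom_iff]
  intro f
  change Comod.coact (k := k) (A := A) (f 1) =
    ((ev1 k A B).restrictScalars k).rTensor A (coactH k A B f)
  have h1 : ∀ t : (A →ₗ[k] B) ⊗[k] A, ((ev1 k A B).restrictScalars k).rTensor A t =
      Th k A B A t 1 := by
    intro t
    induction t with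
    | zero => simp
    | tmul g a => rw [LinearMap.rTensor_tmul, Th_tmul]; rfl
    | add s s' hs hs' => simp only [map_add, LinearMap.add_apply, hs, hs']
  rw [h1, Th_coactH, Gam_apply, Bialgebra.comul_one, Algebra.TensorProduct.one_def, G2_tmul]
  have : HopfAlgebraStruct.antipode k (1 : A) = 1 := HopfAlgebra.antipode_one
  rw [this, ← Algebra.TensorProduct.one_def, mul_one]

omit [GLin.IsCoactAlg k A B] [Module.Finite k A] [Module.Projective k A] in
/-- a map with `Γ f = f(-) ⊗ 1` is a comodule map -/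
lemma isComodHom_of_Gam (f : A →ₗ[k] B) (hf : ∀ x, Gam k A B f x = f x ⊗ₜ (1 : A)) :
    Hoch.IsComodHom A f := by
  rw [isComodHom_iff]
  intro x
  have h1 : mulR k A B ((Gam k A B f).rTensor A (CoalgebraStruct.comul (R := k) x)) =
      f.rTensor A (CoalgebraStruct.comul (R := k) x) := by
    generalize CoalgebraStruct.comul (R := k) x = z
    induction z with
    | zero => simp
    | tmul u v => rw [LinearMap.rTensor_tmul, LinearMap.rTensor_tmul, hf, mulR_tmul]; simp
    | add s s' hs hs' => simp only [map_add, hs, hs']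
  have h2 : ∀ z : A ⊗[k] A, mulR k A B ((Gam k A B f).rTensor A z) =
      (mulR k A B ∘ₗ TensorProduct.map (Comod.coact (k := k) (A := A) ∘ₗ f) (LinearMap.mul' k A ∘ₗ
        (HopfAlgebraStruct.antipode k (A := A)).rTensor A))
        (TensorProduct.assoc k A A A ((CoalgebraStruct.comul (R := k) (A := A)).rTensor A z)) := by
    intro z
    induction z with
    | zero => simp
    | tmul u v =>
      rw [LinearMap.rTensor_tmul, LinearMap.rTensor_tmul, mulR_tmul, Gam_apply]
      generalize CoalgebraStruct.comul (R := k) u = y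
      induction y with
      | zero => simp
      | tmul a b => simp [mul_assoc]
      | add s s' hs hs' => simp only [map_add, add_tmul, add_mul, hs, hs']
    | add s s' hs hs' => simp only [map_add, hs, hs']
  rw [h2, Coalgebra.coassoc_apply] at h1
  have h3 : ∀ z : A ⊗[k] A, (mulR k A B ∘ₗ TensorProduct.map (Comod.coact (k := k) (A := A) ∘ₗ f)
      (LinearMap.mul' k A ∘ₗ (HopfAlgebraStruct.antipode k (A := A)).rTensor A))
        ((CoalgebraStruct.comul (R := k) (A := A)).lTensor A z) =
      Comod.coact (k := k) (A := A) (f (TensorProduct.rid k A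
        ((CoalgebraStruct.counit (R := k) (A := A)).lTensor A z))) := by
    intro z
    induction z with
    | zero => simp
    | tmul u v =>
      have h4 : LinearMap.mul' k A ((HopfAlgebraStruct.antipode k (A := A)).rTensor A
          (CoalgebraStruct.comul (R := k) v)) = algebraMap k A (CoalgebraStruct.counit (R := k) v) :=
        HopfAlgebra.mul_antipode_rTensor_comul_apply v
      simp only [LinearMap.comp_apply, LinearMap.lTensor_tmul, TensorProduct.map_tmul, mulR_tmul, h4,
        TensorProduct.rid_tmul, map_smul, Algebra.algebraMap_eq_smul_one, TensorProduct.tmul_smul,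
        mul_smul_comm]
      rw [← Algebra.TensorProduct.one_def, mul_one]
    | add s s' hs hs' => simp only [map_add, hs, hs']
  rw [h3, Coalgebra.lTensor_counit_comul] at h1
  rw [TensorProduct.rid_tmul, one_smul] at h1
  exact h1

lemma isComodHom_of_fixed (f : A →ₗ[k] B) (hf : coactH k A B f = f ⊗ₜ (1 : A)) :
    Hoch.IsComodHom A f := by
  refine isComodHom_of_Gam f fun x => ?_
  rw [← Th_coactH, hf, Th_tmul]

end K189.HomMod

end
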