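import Groth.Agent.HopfRep.K189.Reynolds
import Mathlib.RingTheory.Spectrum.Prime.RingHom
import Mathlib.RingTheory.Ideal.GoingUp

/-!
The Reynolds operator of a total integral on the algebra itself: consequences for the ring of
invariants.
-/

set_option autoImplicit false
universe u v w w' w''
open TensorProduct HopfRep

namespace K189.Invariants

open K189.Basic K189.Antipode K189.Reynolds

variable {k : Type u} [CommRing k] {A : Type v} [CommRing A] [HopfAlgebra k A]
variable {B : Type w} [CommRing B] [Algebra k B] [Comod k A B] [GLin.IsCoactAlg k A B]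

theorem hmSMul_self (x y : B ⊗[k] A) : TameAct.hmSMul k A B B x y = x * y := by
  induction x with
  | zero => simp
  | tmul a b =>
    induction y with
    | zero => simp
    | tmul c d => simp
    | add y y' hy hy' => simp only [map_add, mul_add, hy, hy']
  | add x x' hx hx' => simp only [map_add, LinearMap.add_apply, add_mul, hx, hx']

/-- an algebra with a multiplicative coaction is a Hopf module over itself -/
theorem isHopfMod_self : TameAct.IsHopfMod k A B B where
  coact_smul b m := by
    rw [hmSMul_self, smul_eq_mul, GLin.IsCoactAlg.coact_mul (k := k) (A := A)]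

/-- the Reynolds operator on `B` -/
noncomputable def E (k : Type u) [CommRing k] (A : Type v) [CommRing A] [HopfAlgebra k A]
    {B : Type w} [CommRing B] [Algebra k B] [Comod k A B] (α : A →ₗ[k] B) : B →ₗ[k] B :=
  TameAct.reynolds k A B B α

theorem E_mem {α : A →ₗ[k] B} (hα : Hoch.IsComodHom A α) (b : B) :
    E k A α b ∈ GLin.invariants k A B := by
  haveI := isHopfMod_self (k := k) (A := A) (B := B)
  exact coact_reynolds (M := B) hα b

theorem E_eq_self {α : A →ₗ[k] B} (hα1 : α 1 = 1) {b : B} (hb : b ∈ GLin.invariants k A B) :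
    E k A α b = b := reynolds_eq_self (M := B) hα1 hb

theorem E_mul (α : A →ₗ[k] B) {c : B} (hc : c ∈ GLin.invariants k A B) (b : B) :
    E k A α (c * b) = c * E k A α b := by
  have hc' : Comod.coact (k := k) (A := A) c = c ⊗ₜ[k] (1 : A) := hc
  have h1 : E k A α (c * b) = R B α (Comod.coact (k := k) (A := A) (c * b)) := rfl
  have h2 : E k A α b = R B α (Comod.coact (k := k) (A := A) b) := rfl
  rw [h1, h2, GLin.IsCoactAlg.coact_mul (k := k) (A := A), hc']
  generalize Comod.coact (k := k) (A := A) b = t
  induction t with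
  | zero => simp
  | tmul x a => simp; ring
  | add x y hx hy => simp only [mul_add, map_add, hx, hy]

/-- an element of an extended ideal is sent to the ideal -/
theorem E_mem_of_mem_map {α : A →ₗ[k] B} (hα : Hoch.IsComodHom A α)
    (c : Ideal (GLin.invariants k A B)) {b : B}
    (hb : b ∈ c.map (algebraMap (GLin.invariants k A B) B)) :
    (⟨E k A α b, E_mem hα b⟩ : GLin.invariants k A B) ∈ c := by
  have hb' : b ∈ (c • ⊤ : Submodule (GLin.invariants k A B) B) := by
    rw [Ideal.smul_top_eq_map]; exact hb
  refine Submodule.smul_induction_on (p := fun b =>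
    (⟨E k A α b, E_mem hα b⟩ : GLin.invariants k A B) ∈ c) hb' ?_ ?_
  · intro r hr x _
    have h : (⟨E k A α (r • x), E_mem hα (r • x)⟩ : GLin.invariants k A B) =
        r * ⟨E k A α x, E_mem hα x⟩ := Subtype.ext (E_mul α r.2 x)
    rw [h]
    exact c.mul_mem_right _ hr
  · intro x y hx hy
    have h : (⟨E k A α (x + y), E_mem hα (x + y)⟩ : GLin.invariants k A B) =
        ⟨E k A α x, E_mem hα x⟩ + ⟨E k A α y, E_mem hα y⟩ := Subtype.ext (map_add _ _ _)
    rw [h]
    exact c.add_mem hx hy

/-- `cB ∩ C = c` -/
theorem comap_map_eq {α : A →ₗ[k] B} (hα : Hoch.IsComodHom A α) (hα1 : α 1 = 1)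
    (c : Ideal (GLin.invariants k A B)) :
    (c.map (algebraMap (GLin.invariants k A B) B)).comap (algebraMap (GLin.invariants k A B) B) = c := by
  refine le_antisymm ?_ Ideal.le_comap_map
  intro x hx
  have h := E_mem_of_mem_map hα c (Ideal.mem_comap.1 hx)
  have h2 : (⟨E k A α (algebraMap (GLin.invariants k A B) B x), E_mem hα _⟩ : GLin.invariants k A B) = x :=
    Subtype.ext (E_eq_self hα1 x.2)
  rwa [h2] at h

/-- a prime of `C` containing `b ∩ C` is the contraction of a prime containing `b`, for `b` a stable ideal. -/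
theorem exists_prime {α : A →ₗ[k] B} (hα : Hoch.IsComodHom A α) (hα1 : α 1 = 1)
    (b : Ideal B) (hb : IsSubcomod (k := k) (A := A) (b.restrictScalars k))
    (p : Ideal (GLin.invariants k A B)) [hp : p.IsPrime]
    (hbp : b.comap (algebraMap (GLin.invariants k A B) B) ≤ p) :
    ∃ q : Ideal B, q.IsPrime ∧ b ≤ q ∧ q.comap (algebraMap (GLin.invariants k A B) B) = p := by
  let φ := algebraMap (GLin.invariants k A B) B
  have key : ∀ x : GLin.invariants k A B, φ x ∈ b ⊔ p.map φ → x ∈ p := by
    intro x hx
    obtain ⟨y, hy, z, hz, hyz⟩ := Submodule.mem_sup.1 hx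
    have h1 : E k A α (φ x) = x := E_eq_self hα1 x.2
    have h2 : E k A α y ∈ b := reynolds_mem_of_isSubcomod (M := B) α b hb hy
    have h3 : (⟨E k A α y, E_mem hα y⟩ : GLin.invariants k A B) ∈ p := hbp h2
    have h4 := E_mem_of_mem_map hα p hz
    have h5 : x = (⟨E k A α y, E_mem hα y⟩ : GLin.invariants k A B) + ⟨E k A α z, E_mem hα z⟩ := by
      apply Subtype.ext
      rw [← h1, ← hyz, map_add]
      rfl
    rw [h5]
    exact p.add_mem h3 h4
  have hdisj : Disjoint ((b ⊔ p.map φ : Ideal B) : Set B) (p.primeCompl.map φ : Submonoid B) := by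
    rw [Set.disjoint_left]
    rintro _ hx ⟨s, hs, rfl⟩
    exact hs (key s hx)
  obtain ⟨q, hq, hle, hd⟩ := Ideal.exists_le_prime_disjoint _ _ hdisj
  refine ⟨q, hq, le_sup_left.trans hle, le_antisymm ?_ ?_⟩
  · intro x hx
    by_contra hxp
    exact Set.disjoint_left.1 hd hx ⟨x, hxp, rfl⟩
  · exact Ideal.map_le_iff_le_comap.1 (le_sup_right.trans hle)

omit [GLin.IsCoactAlg k A B] in
theorem isSubcomod_bot : IsSubcomod (k := k) (A := A) ((⊥ : Ideal B).restrictScalars k) := by
  intro w hw
  rw [Submodule.restrictScalars_bot, Submodule.mem_bot] at hw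
  rw [hw, map_zero]
  exact zero_mem _

end K189.Invariants
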