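import Groth.Agent.HopfRep.K189.Reynolds

/-!
The left inverse of the coaction attached to a total integral.
-/

set_option autoImplicit false
universe u v w w' w''
open TensorProduct HopfRep

namespace K189.Lam

open K189.Basic K189.Antipode

variable {k : Type u} [CommRing k] {A : Type v} [CommRing A] [HopfAlgebra k A]
variable {B : Type w} [CommRing B] [Algebra k B] [Comod k A B] [GLin.IsCoactAlg k A B]

/-- `(x ⊗ b) ⊗ a ↦ x * α (S b * a)` -/
noncomputable def L3 (α : A →ₗ[k] B) : (B ⊗[k] A) ⊗[k] A →ₗ[k] B :=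
  LinearMap.mul' k B ∘ₗ TensorProduct.map LinearMap.id (α ∘ₗ LinearMap.mul' k A ∘ₗ
    TensorProduct.map (HopfAlgebraStruct.antipode k) LinearMap.id) ∘ₗ
    (TensorProduct.assoc k B A A).toLinearMap

@[simp] theorem L3_tmul (α : A →ₗ[k] B) (x : B) (b a : A) :
    L3 α ((x ⊗ₜ b) ⊗ₜ a) = x * α (HopfAlgebraStruct.antipode k b * a) := by
  simp [L3]

/-- `x ⊗ a ↦ Σ x₀ α(S x₁ a)` -/
noncomputable def lam (α : A →ₗ[k] B) : B ⊗[k] A →ₗ[k] B :=
  L3 α ∘ₗ (Comod.coact (k := k) (A := A) (V := B)).rTensor A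

/-- `((x ⊗ b) ⊗ c) ⊗ a ↦ (x ⊗ b) * (α ⊗ id)(Δ(S c) Δ a)` -/
noncomputable def P4 (α : A →ₗ[k] B) : ((B ⊗[k] A) ⊗[k] A) ⊗[k] A →ₗ[k] B ⊗[k] A :=
  LinearMap.mul' k (B ⊗[k] A) ∘ₗ TensorProduct.map LinearMap.id (α.rTensor A ∘ₗ
    LinearMap.mul' k (A ⊗[k] A) ∘ₗ TensorProduct.map
      (CoalgebraStruct.comul (R := k) (A := A) ∘ₗ HopfAlgebraStruct.antipode k)
      (CoalgebraStruct.comul (R := k) (A := A))) ∘ₗ
    (TensorProduct.assoc k (B ⊗[k] A) A A).toLinearMap

@[simp] theorem P4_tmul (α : A →ₗ[k] B) (y : B ⊗[k] A) (c a : A) :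
    P4 α ((y ⊗ₜ c) ⊗ₜ a) = y * α.rTensor A (CoalgebraStruct.comul (R := k)
      (HopfAlgebraStruct.antipode k c) * CoalgebraStruct.comul (R := k) a) := by
  simp [P4]

theorem tmul_mul_rTensor (α : A →ₗ[k] B) (x : B) (b : A) (z : A ⊗[k] A) :
    (x ⊗ₜ b) * α.rTensor A z = TensorProduct.map (LinearMap.mulLeft k x ∘ₗ α) LinearMap.id
      ((1 ⊗ₜ b) * z) := by
  induction z with
  | zero => simp
  | tmul u v => simp
  | add u v hu hv => simp only [map_add, mul_add, hu, hv]

/-- the key computation -/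
theorem P4_comul (α : A →ₗ[k] B) (x : B) (c a : A) :
    P4 α ((TensorProduct.assoc k B A A).symm (x ⊗ₜ CoalgebraStruct.comul (R := k) c) ⊗ₜ a) =
      TensorProduct.map (LinearMap.mulLeft k x ∘ₗ α) LinearMap.id
        ((HopfAlgebraStruct.antipode k c ⊗ₜ (1 : A)) * CoalgebraStruct.comul (R := k) a) := by
  have h1 : ∀ z : A ⊗[k] A, P4 α ((TensorProduct.assoc k B A A).symm (x ⊗ₜ z) ⊗ₜ a) =
      TensorProduct.map (LinearMap.mulLeft k x ∘ₗ α) LinearMap.id
        (LinearMap.mul' k (A ⊗[k] A) (TensorProduct.map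
      (Algebra.TensorProduct.includeRight : A →ₐ[k] A ⊗[k] A).toLinearMap
      (CoalgebraStruct.comul (R := k) (A := A) ∘ₗ HopfAlgebraStruct.antipode k) z) *
        CoalgebraStruct.comul (R := k) a) := by
    intro z
    induction z with
    | zero => simp
    | tmul u v =>
      simp only [TensorProduct.assoc_symm_tmul, P4_tmul, TensorProduct.map_tmul,
        LinearMap.mul'_apply, LinearMap.comp_apply, tmul_mul_rTensor, mul_assoc]
      rfl
    | add u v hu hv => simp only [tmul_add, add_tmul, map_add, hu, hv, add_mul]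
  rw [h1, sum_inr_mul_comul_antipode]

theorem coact_L3 {α : A →ₗ[k] B} (hα : Hoch.IsComodHom A α) (t : (B ⊗[k] A) ⊗[k] A) :
    Comod.coact (k := k) (A := A) (L3 α t) =
      P4 α (((Comod.coact (k := k) (A := A) (V := B)).rTensor A).rTensor A t) := by
  rw [isComodHom_iff] at hα
  induction t with
  | zero => simp
  | tmul y a =>
    induction y with
    | zero => simp
    | tmul x b =>
      rw [L3_tmul, GLin.IsCoactAlg.coact_mul (k := k) (A := A), hα, LinearMap.rTensor_tmul,
        LinearMap.rTensor_tmul, P4_tmul]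
      congr 2
      exact Bialgebra.comul_mul _ _
    | add y y' hy hy' => simp only [map_add, add_tmul, hy, hy']
  | add x y hx hy => simp only [map_add, hx, hy]

theorem coact_lam {α : A →ₗ[k] B} (hα : Hoch.IsComodHom A α) (b : B) (a : A) :
    Comod.coact (k := k) (A := A) (lam α (b ⊗ₜ a)) =
      (lam α).rTensor A ((TensorProduct.assoc k B A A).symm
        (b ⊗ₜ CoalgebraStruct.comul (R := k) a)) := by
  have h0 : lam α (b ⊗ₜ a) = L3 α (Comod.coact (k := k) (A := A) b ⊗ₜ a) := rfl
  rw [h0, coact_L3 hα, LinearMap.rTensor_tmul, coassoc_symm_apply]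
  have h2 : ∀ z : A ⊗[k] A, (lam α).rTensor A ((TensorProduct.assoc k B A A).symm (b ⊗ₜ z)) =
      (L3 α).rTensor A ((TensorProduct.assoc k (B ⊗[k] A) A A).symm
        (Comod.coact (k := k) (A := A) b ⊗ₜ z)) := by
    intro z
    induction z with
    | zero => simp
    | tmul u v => simp [lam]
    | add u v hu hv => simp only [tmul_add, map_add, hu, hv]
  rw [h2]
  generalize Comod.coact (k := k) (A := A) b = t
  induction t with
  | zero => simp
  | tmul x c =>
    rw [LinearMap.lTensor_tmul, P4_comul]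
    generalize CoalgebraStruct.comul (R := k) a = z
    induction z with
    | zero => simp
    | tmul u v => simp
    | add u v hu hv => simp only [tmul_add, map_add, hu, hv, mul_add]
  | add x y hx hy => simp only [map_add, add_tmul, hx, hy]

theorem lam_coact {α : A →ₗ[k] B} (hα1 : α 1 = 1) (b : B) :
    lam α (Comod.coact (k := k) (A := A) b) = b := by
  have h0 : lam α (Comod.coact (k := k) (A := A) b) =
      L3 α ((Comod.coact (k := k) (A := A) (V := B)).rTensor A (Comod.coact (k := k) (A := A) b)) := rfl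
  rw [h0, coassoc_symm_apply]
  have h1 : ∀ t : B ⊗[k] A, L3 α ((TensorProduct.assoc k B A A).symm
      ((CoalgebraStruct.comul (R := k) (A := A)).lTensor B t)) = ev k A B t := by
    intro t
    induction t with
    | zero => simp
    | tmul x c =>
      rw [LinearMap.lTensor_tmul, ev_tmul]
      have h2 : ∀ z : A ⊗[k] A, L3 α ((TensorProduct.assoc k B A A).symm (x ⊗ₜ z)) =
          x * α (LinearMap.mul' k A ((HopfAlgebraStruct.antipode k (A := A)).rTensor A z)) := by
        intro z
        induction z with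
        | zero => simp
        | tmul u v => simp
        | add u v hu hv => simp only [tmul_add, map_add, hu, hv, mul_add]
      rw [h2]
      have h3 : LinearMap.mul' k A ((HopfAlgebraStruct.antipode k (A := A)).rTensor A
          (CoalgebraStruct.comul (R := k) c)) = algebraMap k A (CoalgebraStruct.counit (R := k) c) :=
        HopfAlgebra.mul_antipode_rTensor_comul_apply c
      rw [h3, Algebra.algebraMap_eq_smul_one, map_smul, hα1]
      simp
    | add x y hx hy => simp only [map_add, hx, hy]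
  rw [h1, ev_coact]

theorem exists_left_inverse {α : A →ₗ[k] B} (hα : Hoch.IsComodHom A α) (hα1 : α 1 = 1) :
    ∃ lam : Hoch.Ind k A B →ₗ[k] B, Hoch.IsComodHom A lam ∧ lam ∘ₗ Hoch.toInd k A B = LinearMap.id := by
  refine ⟨lam α ∘ₗ (Hoch.Ind.equiv k A B).symm.toLinearMap, ?_, ?_⟩
  · rw [isComodHom_iff]
    intro x
    have key : Comod.coact (k := k) (A := A) (V := B) ∘ₗ lam α = (lam α).rTensor A ∘ₗ
        (TensorProduct.assoc k B A A).symm.toLinearMap ∘ₗ
          (CoalgebraStruct.comul (R := k) (A := A)).lTensor B :=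
      TensorProduct.ext' fun b a => coact_lam hα b a
    exact LinearMap.congr_fun key ((Hoch.Ind.equiv k A B).symm x)
  · exact LinearMap.ext fun b => lam_coact hα1 b

end K189.Lam
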