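import Groth.Prelude.Def_W4c1tameactTame
import Groth.Agent.HopfRep.K189.Basic
import Groth.Agent.HopfRep.K189.Antipode

/-!
The Reynolds operator of a total integral: values are invariant, invariants are fixed, naturality,
linearity over invariants, stability of subcomodules.
-/

set_option autoImplicit false
universe u v w w' w''
open TensorProduct HopfRep

namespace K189.Reynolds

open K189.Basic K189.Antipode

variable {k : Type u} [CommRing k] {A : Type v} [CommRing A] [HopfAlgebra k A]
variable {B : Type w} [CommRing B] [Algebra k B]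
variable {M : Type w'} [AddCommGroup M] [Module k M] [Module B M] [IsScalarTower k B M]

/-- `x ⊗ a ↦ α(S a) • x` -/
noncomputable def R (M : Type w') [AddCommGroup M] [Module k M] [Module B M] [IsScalarTower k B M]
    (α : A →ₗ[k] B) : M ⊗[k] A →ₗ[k] M :=
  TensorProduct.lift ((Algebra.lsmul k k M : B →ₐ[k] Module.End k M).toLinearMap ∘ₗ α ∘ₗ
        (HopfAlgebraStruct.antipode (R := k) (A := A))).flip

@[simp] theorem R_tmul (α : A →ₗ[k] B) (x : M) (a : A) :
    R M α (x ⊗ₜ a) = α (HopfAlgebraStruct.antipode k a) • x := by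
  simp [R]

theorem reynolds_apply [Comod k A M] (α : A →ₗ[k] B) (m : M) :
    TameAct.reynolds k A B M α m = R M α (Comod.coact (k := k) (A := A) m) := rfl

/-- `y ⊗ a ↦ ((α ⊗ id) Δ(S a)) · y` -/
noncomputable def Psi (M : Type w') [AddCommGroup M] [Module k M] [Module B M] [IsScalarTower k B M]
    (α : A →ₗ[k] B) : (M ⊗[k] A) ⊗[k] A →ₗ[k] M ⊗[k] A :=
  TensorProduct.lift (TameAct.hmSMul k A B M ∘ₗ α.rTensor A ∘ₗ
    CoalgebraStruct.comul (R := k) (A := A) ∘ₗ HopfAlgebraStruct.antipode k).flip

@[simp] theorem Psi_tmul (α : A →ₗ[k] B) (y : M ⊗[k] A) (a : A) :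
    Psi M α (y ⊗ₜ a) = TameAct.hmSMul k A B M (α.rTensor A
      (CoalgebraStruct.comul (R := k) (HopfAlgebraStruct.antipode k a))) y := by
  simp [Psi]

/-- `u ⊗ v ↦ (α u • x) ⊗ v` -/
noncomputable def Th (α : A →ₗ[k] B) (x : M) : A ⊗[k] A →ₗ[k] M ⊗[k] A :=
  (((LinearMap.toSpanSingleton B M x).restrictScalars k) ∘ₗ α).rTensor A

@[simp] theorem Th_tmul (α : A →ₗ[k] B) (x : M) (u v : A) : Th α x (u ⊗ₜ v) = (α u • x) ⊗ₜ[k] v := by
  simp [Th]

theorem hmSMul_eq_Th (α : A →ₗ[k] B) (x : M) (b : A) (z : A ⊗[k] A) :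
    TameAct.hmSMul k A B M (α.rTensor A z) (x ⊗ₜ b) = Th α x ((1 ⊗ₜ b) * z) := by
  induction z with
  | zero => simp
  | tmul u v => simp [mul_comm]
  | add u v hu hv => simp only [map_add, LinearMap.add_apply, hu, hv, mul_add]

theorem Psi_comul (α : A →ₗ[k] B) (x : M) (a : A) :
    Psi M α ((TensorProduct.assoc k M A A).symm (x ⊗ₜ CoalgebraStruct.comul (R := k) a)) =
      (α (HopfAlgebraStruct.antipode k a) • x) ⊗ₜ (1 : A) := by
  have h1 : ∀ z : A ⊗[k] A, Psi M α ((TensorProduct.assoc k M A A).symm (x ⊗ₜ z)) =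
      Th α x (LinearMap.mul' k (A ⊗[k] A) (TensorProduct.map
      (Algebra.TensorProduct.includeRight : A →ₐ[k] A ⊗[k] A).toLinearMap
      (CoalgebraStruct.comul (R := k) (A := A) ∘ₗ HopfAlgebraStruct.antipode k) z)) := by
    intro z
    induction z with
    | zero => simp
    | tmul u v =>
      simp only [TensorProduct.assoc_symm_tmul, Psi_tmul, hmSMul_eq_Th, TensorProduct.map_tmul,
        LinearMap.mul'_apply, LinearMap.comp_apply]
      rfl
    | add u v hu hv => simp only [tmul_add, map_add, hu, hv]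
  rw [h1, sum_inr_mul_comul_antipode, Th_tmul]

variable [Comod k A B] [Comod k A M] [TameAct.IsHopfMod k A B M]

theorem coact_R {α : A →ₗ[k] B} (hα : Hoch.IsComodHom A α) (t : M ⊗[k] A) :
    Comod.coact (k := k) (A := A) (R M α t) = Psi M α ((Comod.coact (k := k) (A := A)).rTensor A t) := by
  rw [isComodHom_iff] at hα
  induction t with
  | zero => simp
  | tmul x a =>
    rw [R_tmul, TameAct.IsHopfMod.coact_smul (k := k) (A := A) (B := B), hα, LinearMap.rTensor_tmul,
      Psi_tmul]
    rfl
  | add x y hx hy => simp only [map_add, hx, hy]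

/-- values of the Reynolds operator are invariant -/
theorem coact_reynolds {α : A →ₗ[k] B} (hα : Hoch.IsComodHom A α) (m : M) :
    Comod.coact (k := k) (A := A) (TameAct.reynolds k A B M α m) =
      TameAct.reynolds k A B M α m ⊗ₜ[k] (1 : A) := by
  rw [reynolds_apply, coact_R hα, coassoc_symm_apply]
  generalize Comod.coact (k := k) (A := A) m = t
  induction t with
  | zero => simp
  | tmul x a => rw [LinearMap.lTensor_tmul, Psi_comul, R_tmul]
  | add x y hx hy => simp only [map_add, hx, hy, add_tmul]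

theorem reynolds_mem {α : A →ₗ[k] B} (hα : Hoch.IsComodHom A α) (m : M) :
    TameAct.reynolds k A B M α m ∈ fixedPts k A M := coact_reynolds hα m

omit [Comod k A B] [TameAct.IsHopfMod k A B M] in
theorem reynolds_eq_self {α : A →ₗ[k] B} (hα1 : α 1 = 1) {m : M} (hm : m ∈ fixedPts k A M) :
    TameAct.reynolds k A B M α m = m := by
  have hm' : Comod.coact (k := k) (A := A) m = m ⊗ₜ[k] (1 : A) := hm
  rw [reynolds_apply, hm', R_tmul]
  have : HopfAlgebraStruct.antipode k (1 : A) = 1 := HopfAlgebra.antipode_one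
  rw [this, hα1, one_smul]

omit [Comod k A B] [TameAct.IsHopfMod k A B M] in
theorem map_reynolds {N : Type w''} [AddCommGroup N] [Module k N] [Module B N] [IsScalarTower k B N]
    [Comod k A N] (α : A →ₗ[k] B) (f : M →ₗ[B] N) (hf : Hoch.IsComodHom A (f.restrictScalars k)) (m : M) :
    f (TameAct.reynolds k A B M α m) = TameAct.reynolds k A B N α (f m) := by
  rw [isComodHom_iff] at hf
  have hf' := hf m
  rw [LinearMap.coe_restrictScalars] at hf'
  rw [reynolds_apply, reynolds_apply, hf']
  generalize Comod.coact (k := k) (A := A) m = t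
  induction t with
  | zero => simp
  | tmul x a => simp
  | add x y hx hy => simp only [map_add, hx, hy]

omit [Comod k A B] [TameAct.IsHopfMod k A B M] in
/-- the Reynolds operator preserves `B`-submodules that are subcomodules -/
theorem reynolds_mem_of_isSubcomod (α : A →ₗ[k] B) (N : Submodule B M)
    (hN : IsSubcomod (k := k) (A := A) (N.restrictScalars k)) {m : M} (hm : m ∈ N) :
    TameAct.reynolds k A B M α m ∈ N := by
  obtain ⟨t, ht⟩ := hN m hm
  rw [reynolds_apply, ← ht]
  clear ht
  induction t with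
  | zero => simp
  | tmul x a =>
    rw [LinearMap.rTensor_tmul, R_tmul]
    exact N.smul_mem _ x.2
  | add x y hx hy =>
    have := N.add_mem hx hy
    simpa only [map_add] using this

end K189.Reynolds
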