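import Groth.Agent.HopfRep.K189.Invariants
import Mathlib.LinearAlgebra.TensorProduct.RightExactness
import Mathlib.RingTheory.Spectrum.Prime.Topology
import Mathlib.RingTheory.Flat.Basic

/-!
The largest stable ideal in an ideal `I` of an algebra with a coaction of a flat Hopf algebra:
`core I = {x | ρ x ∈ I (B ⊗ A)}`. If the closed set of `I` is stable, it is the closed set of `core I`.
-/

set_option autoImplicit false
universe u v w
open TensorProduct HopfRep

namespace K189.StabIdeal

open K189.Basic

variable {k : Type u} [CommRing k] {A : Type v} [CommRing A] [HopfAlgebra k A]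
variable {B : Type w} [CommRing B] [Algebra k B] [Comod k A B] [GLin.IsCoactAlg k A B]

/-- the ideal of elements whose coaction lies in `I ⊗ A` -/
def core (k : Type u) [CommRing k] (A : Type v) [CommRing A] [HopfAlgebra k A]
    {B : Type w} [CommRing B] [Algebra k B] [Comod k A B] [GLin.IsCoactAlg k A B] (I : Ideal B) : Ideal B :=
  (I.map (Algebra.TensorProduct.includeLeft : B →ₐ[k] B ⊗[k] A)).comap (GLin.coactAlgHom k A B)

theorem mem_core (I : Ideal B) (x : B) : x ∈ core k A I ↔
    (Comod.coact (k := k) (A := A) x : B ⊗[k] A) ∈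
      I.map (Algebra.TensorProduct.includeLeft : B →ₐ[k] B ⊗[k] A) := Iff.rfl

/-- the ideal `I ⊗ A` is the kernel of `B ⊗ A → B/I ⊗ A` -/
theorem mem_map_iff (I : Ideal B) (t : B ⊗[k] A) :
    t ∈ I.map (Algebra.TensorProduct.includeLeft : B →ₐ[k] B ⊗[k] A) ↔
      (I.restrictScalars k).mkQ.rTensor A t = 0 := by
  have h1 := Ideal.map_includeLeft_eq (R := k) (A := B) (B := A) I
  have h2 : t ∈ (I.map (Algebra.TensorProduct.includeLeft : B →ₐ[k] B ⊗[k] A)).restrictScalars k ↔
      t ∈ LinearMap.range (LinearMap.rTensor A (Submodule.subtype (I.restrictScalars k))) := by rw [h1]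
  have h3 : t ∈ LinearMap.range (LinearMap.rTensor A (Submodule.subtype (I.restrictScalars k))) ↔
      (I.restrictScalars k).mkQ.rTensor A t = 0 :=
    (rTensor_exact A (LinearMap.exact_subtype_mkQ (I.restrictScalars k))
      (Submodule.mkQ_surjective (I.restrictScalars k)) t).symm
  exact h2.trans h3

theorem mem_core_iff (I : Ideal B) (x : B) : x ∈ core k A I ↔
    (I.restrictScalars k).mkQ.rTensor A (Comod.coact (k := k) (A := A) x) = 0 :=
  (mem_core I x).trans (mem_map_iff I _)

/-- the core is a subcomodule -/
theorem isSubcomod_core [Module.Flat k A] (I : Ideal B) :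
    IsSubcomod (k := k) (A := A) ((core k A I).restrictScalars k) := by
  intro x hx
  have hx' : (I.restrictScalars k).mkQ.rTensor A (Comod.coact (k := k) (A := A) x) = 0 :=
    (mem_core_iff I x).1 hx
  let g : B →ₗ[k] (B ⧸ (I.restrictScalars k)) ⊗[k] A :=
    (I.restrictScalars k).mkQ.rTensor A ∘ₗ Comod.coact (k := k) (A := A)
  have hex : Function.Exact (((core k A I).restrictScalars k).subtype) g := by
    intro y
    have h1 : g y = 0 ↔ y ∈ core k A I := (mem_core_iff I y).symm
    rw [h1]
    constructor
    · intro hy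
      exact ⟨⟨y, hy⟩, rfl⟩
    · rintro ⟨⟨y, hy⟩, rfl⟩
      exact hy
  have hex2 := Module.Flat.rTensor_exact A hex
  have h0 : g.rTensor A (Comod.coact (k := k) (A := A) x) = 0 := by
    have h1 : g.rTensor A (Comod.coact (k := k) (A := A) x) =
        ((I.restrictScalars k).mkQ.rTensor A).rTensor A
          ((Comod.coact (k := k) (A := A)).rTensor A (Comod.coact (k := k) (A := A) x)) := by
      exact LinearMap.rTensor_comp_apply A _ _ _
    rw [h1, coassoc_symm_apply]
    have key : ((I.restrictScalars k).mkQ.rTensor A).rTensor A ∘ₗ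
        (TensorProduct.assoc k B A A).symm.toLinearMap ∘ₗ
          (CoalgebraStruct.comul (R := k) (A := A)).lTensor B =
        (TensorProduct.assoc k _ A A).symm.toLinearMap ∘ₗ
          (CoalgebraStruct.comul (R := k) (A := A)).lTensor (B ⧸ (I.restrictScalars k)) ∘ₗ
          (I.restrictScalars k).mkQ.rTensor A := by
      apply TensorProduct.ext'
      intro y a
      simp only [LinearMap.comp_apply, LinearMap.lTensor_tmul, LinearMap.rTensor_tmul,
        LinearEquiv.coe_coe]
      generalize CoalgebraStruct.comul (R := k) a = z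
      induction z with
      | zero => simp
      | tmul a b => simp
      | add z w hz hw => simp only [tmul_add, map_add, hz, hw]
    have h2 := LinearMap.congr_fun key (Comod.coact (k := k) (A := A) x)
    simp only [LinearMap.comp_apply, LinearEquiv.coe_coe] at h2
    rw [h2, hx', map_zero, map_zero]
  exact (hex2 _).1 h0

/-- the core is contained in the ideal -/
theorem core_le (I : Ideal B) : core k A I ≤ I := by
  intro x hx
  rw [mem_core_iff] at hx
  have h1 : (I.restrictScalars k).mkQ x = 0 := by
    have h2 : TensorProduct.rid k _ ((CoalgebraStruct.counit (R := k) (A := A)).lTensor _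
        ((I.restrictScalars k).mkQ.rTensor A (Comod.coact (k := k) (A := A) x))) =
        (I.restrictScalars k).mkQ x := by
      conv_rhs => rw [← rid_counit_apply (k := k) (A := A) x]
      generalize Comod.coact (k := k) (A := A) x = t
      induction t with
      | zero => simp
      | tmul y a => simp
      | add z w hz hw => simp only [map_add, hz, hw]
    rw [← h2, hx, map_zero, map_zero]
  exact (Submodule.Quotient.mk_eq_zero _).1 h1

/-- the closed set of a stable ideal -/
theorem zeroLocus_core (I : Ideal B)
    (hI : (PrimeSpectrum.comap (Algebra.TensorProduct.includeLeftRingHom : B →+* B ⊗[k] A)) ⁻¹'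
      (PrimeSpectrum.zeroLocus (I : Set B)) ⊆
      (PrimeSpectrum.comap (GLin.coactAlgHom k A B).toRingHom) ⁻¹'
      (PrimeSpectrum.zeroLocus (I : Set B))) :
    PrimeSpectrum.zeroLocus (core k A I : Set B) = PrimeSpectrum.zeroLocus (I : Set B) := by
  apply subset_antisymm
  · have h1 : PrimeSpectrum.zeroLocus (core k A I : Set B) =
        closure (PrimeSpectrum.comap (GLin.coactAlgHom k A B).toRingHom ''
          PrimeSpectrum.zeroLocus ((I.map (Algebra.TensorProduct.includeLeftRingHom :
            B →+* B ⊗[k] A) : Ideal (B ⊗[k] A)) : Set (B ⊗[k] A))) := by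
      rw [PrimeSpectrum.closure_image_comap_zeroLocus]
      rfl
    rw [h1]
    apply closure_minimal _ (PrimeSpectrum.isClosed_zeroLocus _)
    rintro _ ⟨q, hq, rfl⟩
    apply hI
    rw [PrimeSpectrum.preimage_comap_zeroLocus]
    rw [Ideal.map, PrimeSpectrum.zeroLocus_span] at hq
    exact hq
  · exact PrimeSpectrum.zeroLocus_anti_mono (core_le I)

/-- `Spec B → Spec C` is surjective -/
theorem comap_surjective {α : A →ₗ[k] B} (hα : Hoch.IsComodHom A α) (hα1 : α 1 = 1) :
    Function.Surjective (PrimeSpectrum.comap (algebraMap (GLin.invariants k A B) B)) := by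
  intro p
  obtain ⟨q, hq, -, h⟩ := K189.Invariants.exists_prime hα hα1 ⊥ K189.Invariants.isSubcomod_bot p.asIdeal (by
    intro x hx
    have h0 : algebraMap (GLin.invariants k A B) B x = 0 := hx
    have h1 : x = 0 := Subtype.ext h0
    rw [h1]
    exact zero_mem _)
  exact ⟨⟨q, hq⟩, PrimeSpectrum.ext h⟩

/-- a family of stable closed sets with empty intersection, seen from the quotient -/
theorem exists_invariant {ι : Type*} {α : A →ₗ[k] B} (hα : Hoch.IsComodHom A α) (hα1 : α 1 = 1)
    (b : ι → Ideal B) (hb : ∀ i, IsSubcomod (k := k) (A := A) ((b i).restrictScalars k))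
    (htop : ⨆ i, b i = ⊤) (y : Ideal (GLin.invariants k A B)) (hy : y ≠ ⊤) :
    ∃ i, ∃ f : GLin.invariants k A B, (f : B) ∈ b i ∧ f ∉ y := by
  by_contra hcon
  push Not at hcon
  apply hy
  have h1 : (1 : B) ∈ ⨆ i, b i := by rw [htop]; trivial
  have h2 : (⟨K189.Invariants.E k A α 1, K189.Invariants.E_mem hα 1⟩ : GLin.invariants k A B) ∈ y := by
    refine Submodule.iSup_induction b (motive := fun x =>
      (⟨K189.Invariants.E k A α x, K189.Invariants.E_mem hα x⟩ : GLin.invariants k A B) ∈ y) h1 ?_ ?_ ?_
    · intro i x hx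
      exact hcon i _ (K189.Reynolds.reynolds_mem_of_isSubcomod (M := B) α (b i) (hb i) hx)
    · have : (⟨K189.Invariants.E k A α 0, K189.Invariants.E_mem hα 0⟩ : GLin.invariants k A B) = 0 :=
        Subtype.ext (map_zero _)
      rw [this]; exact zero_mem _
    · intro x z hx hz
      have : (⟨K189.Invariants.E k A α (x + z), K189.Invariants.E_mem hα (x + z)⟩ :
          GLin.invariants k A B) = ⟨K189.Invariants.E k A α x, K189.Invariants.E_mem hα x⟩ +
            ⟨K189.Invariants.E k A α z, K189.Invariants.E_mem hα z⟩ :=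
        Subtype.ext (map_add _ _ _)
      rw [this]; exact y.add_mem hx hz
  have h3 : (⟨K189.Invariants.E k A α 1, K189.Invariants.E_mem hα 1⟩ : GLin.invariants k A B) = 1 :=
    Subtype.ext (K189.Invariants.E_eq_self hα1 (GLin.invariants k A B).one_mem)
  rw [Ideal.eq_top_iff_one, ← h3]
  exact h2
  
end K189.StabIdeal
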